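import Cfsg.Prelude.Def_ChevG2
import Cfsg.Agent.Chev.Special.Iso
import Cfsg.Agent.Chev.Special.SpecG2
import Cfsg.Agent.Chev.ValidG2

/-! Kernel computations in the seven-dimensional representation of `G₂(3)`. -/

set_option autoImplicit false
set_option maxRecDepth 100000

namespace CfsgLib.G2Three

open Cfsg.Lie Matrix

/-- The seven basis indices of the short root ideal. -/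
def idx : Fin 7 → chevG2.Idx :=
  ![Sum.inl ⟨0, by decide⟩, Sum.inr ⟨2, by decide⟩, Sum.inr ⟨3, by decide⟩, Sum.inr ⟨4, by decide⟩,
    Sum.inr ⟨7, by decide⟩, Sum.inr ⟨8, by decide⟩, Sum.inr ⟨9, by decide⟩]

/-- The action on the seven coordinates. -/
def r7 (M : Matrix chevG2.Idx chevG2.Idx (ZMod 3)) : Matrix (Fin 7) (Fin 7) (ZMod 3) :=
  M.submatrix idx idx

/-- The tensor of the invariant product. -/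
def tensor : Fin 7 → Matrix (Fin 7) (Fin 7) (ZMod 3) :=
  ![!![0, 0, 0, 0, 0, 0, 0; 0, 0, 0, 0, 0, 0, 1; 0, 0, 0, 0, 0, 2, 0; 0, 0, 0, 0, 2, 0, 0; 0, 0, 0, 1, 0, 0, 0; 0, 0, 1, 0, 0, 0, 0; 0, 2, 0, 0, 0, 0, 0],
    !![0, 2, 0, 0, 0, 0, 0; 1, 0, 0, 0, 0, 0, 0; 0, 0, 0, 1, 0, 0, 0; 0, 0, 2, 0, 0, 0, 0; 0, 0, 0, 0, 0, 0, 0; 0, 0, 0, 0, 0, 0, 0; 0, 0, 0, 0, 0, 0, 0],
    !![0, 0, 1, 0, 0, 0, 0; 0, 0, 0, 0, 1, 0, 0; 2, 0, 0, 0, 0, 0, 0; 0, 0, 0, 0, 0, 0, 0; 0, 2, 0, 0, 0, 0, 0; 0, 0, 0, 0, 0, 0, 0; 0, 0, 0, 0, 0, 0, 0],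
    !![0, 0, 0, 1, 0, 0, 0; 0, 0, 0, 0, 0, 2, 0; 0, 0, 0, 0, 0, 0, 0; 2, 0, 0, 0, 0, 0, 0; 0, 0, 0, 0, 0, 0, 0; 0, 1, 0, 0, 0, 0, 0; 0, 0, 0, 0, 0, 0, 0],
    !![0, 0, 0, 0, 2, 0, 0; 0, 0, 0, 0, 0, 0, 0; 0, 0, 0, 0, 0, 0, 2; 0, 0, 0, 0, 0, 0, 0; 1, 0, 0, 0, 0, 0, 0; 0, 0, 0, 0, 0, 0, 0; 0, 0, 1, 0, 0, 0, 0],
    !![0, 0, 0, 0, 0, 2, 0; 0, 0, 0, 0, 0, 0, 0; 0, 0, 0, 0, 0, 0, 0; 0, 0, 0, 0, 0, 0, 1; 0, 0, 0, 0, 0, 0, 0; 1, 0, 0, 0, 0, 0, 0; 0, 0, 0, 2, 0, 0, 0],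
    !![0, 0, 0, 0, 0, 0, 1; 0, 0, 0, 0, 0, 0, 0; 0, 0, 0, 0, 0, 0, 0; 0, 0, 0, 0, 0, 0, 0; 0, 0, 0, 0, 0, 1, 0; 0, 0, 0, 0, 2, 0, 0; 2, 0, 0, 0, 0, 0, 0]]

/-- The invariant product, written out. -/
def bfast (u v : Fin 7 → ZMod 3) : Fin 7 → ZMod 3 :=
  ![u 1 * v 6 + 2 * (u 2 * v 5) + 2 * (u 3 * v 4) + u 4 * v 3 + u 5 * v 2 + 2 * (u 6 * v 1),
    2 * (u 0 * v 1) + u 1 * v 0 + u 2 * v 3 + 2 * (u 3 * v 2),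
    u 0 * v 2 + u 1 * v 4 + 2 * (u 2 * v 0) + 2 * (u 4 * v 1),
    u 0 * v 3 + 2 * (u 1 * v 5) + 2 * (u 3 * v 0) + u 5 * v 1,
    2 * (u 0 * v 4) + 2 * (u 2 * v 6) + u 4 * v 0 + u 6 * v 2,
    2 * (u 0 * v 5) + u 3 * v 6 + u 5 * v 0 + 2 * (u 6 * v 3),
    u 0 * v 6 + u 4 * v 5 + 2 * (u 5 * v 4) + 2 * (u 6 * v 0)]

/-- A cyclic vector. -/
def cyc : Fin 7 → ZMod 3 := ![0, 0, 0, 0, 0, 0, 1]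

theorem gen_invariant : ∀ (r : Fin chevG2.nroots) (t : ZMod 3) (k : Fin 7),
    (r7 (chevG2.xMat (ZMod 3) r t))ᵀ * tensor k * r7 (chevG2.xMat (ZMod 3) r t) =
      ∑ l, r7 (chevG2.xMat (ZMod 3) r t) k l • tensor l := by
  decide +kernel

def w6 : List (Fin 12 × ZMod 3) := [(4, 1), (7, 2)]

def m6 : Matrix (Fin 7) (Fin 7) (ZMod 3) := !![2, 0, 0, 0, 2, 0, 0; 0, 0, 2, 0, 0, 0, 0; 0, 1, 1, 0, 0, 0, 0; 0, 0, 0, 0, 2, 0, 0; 2, 0, 0, 2, 1, 0, 0; 0, 0, 0, 0, 0, 0, 1; 0, 0, 0, 0, 0, 2, 1]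

theorem word6 : (w6.map fun p => r7 (chevG2.xMat (ZMod 3) p.1 p.2)).prod = m6 := by decide +kernel

theorem facts6 : m6 ^ 6 = 1 ∧ m6 ^ 2 ≠ 1 ∧ m6 ^ 3 ≠ 1 := by decide +kernel

/-- The action of the element of order 7. -/
def m7 : Matrix (Fin 7) (Fin 7) (ZMod 3) := !![2, 0, 2, 0, 0, 0, 0; 0, 1, 1, 1, 0, 0, 0; 0, 2, 0, 0, 0, 0, 0; 1, 0, 2, 0, 2, 1, 0; 0, 0, 1, 0, 0, 0, 0; 0, 0, 0, 0, 1, 0, 2; 0, 0, 0, 0, 1, 0, 0]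

def w7 : List (Fin 12 × ZMod 3) := [(7, 1), (6, 1), (4, 2), (5, 2)]

def c7a : Fin 7 → ZMod 3 := ![0, 0, 0, 0, 0, 0, 0]

def c7b : Fin 7 → ZMod 3 := ![0, 2, 0, 0, 0, 0, 0]

def q7a : Matrix (Fin 7) (Fin 7) (ZMod 3) := !![0, 0, 0, 0, 0, 0, 0; 0, 0, 0, 0, 0, 0, 0; 0, 0, 0, 0, 0, 0, 0; 0, 0, 0, 0, 0, 0, 0; 0, 0, 0, 0, 0, 0, 0; 0, 0, 0, 0, 0, 0, 0; 0, 0, 0, 0, 0, 0, 0]

def q7b : Matrix (Fin 7) (Fin 7) (ZMod 3) := !![1, 0, 1, 0, 0, 0, 0; 0, 2, 2, 2, 0, 0, 0; 0, 1, 0, 0, 0, 0, 0; 2, 0, 1, 0, 1, 2, 0; 0, 0, 2, 0, 0, 0, 0; 0, 0, 0, 0, 2, 0, 1; 0, 0, 0, 0, 2, 0, 0]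

def krylov7 : Matrix (Fin 7) (Fin 7) (ZMod 3) := !![0, 0, 0, 0, 0, 2, 0; 0, 0, 0, 2, 2, 0, 0; 0, 0, 0, 0, 1, 1, 0; 0, 0, 2, 0, 0, 2, 0; 0, 0, 0, 0, 0, 1, 1; 0, 2, 0, 0, 0, 0, 1; 1, 0, 0, 0, 0, 0, 1]

def krylovInv7 : Matrix (Fin 7) (Fin 7) (ZMod 3) := !![2, 0, 0, 0, 2, 0, 1; 1, 0, 0, 0, 1, 2, 0; 1, 0, 0, 2, 0, 0, 0; 2, 2, 2, 0, 0, 0, 0; 1, 0, 1, 0, 0, 0, 0; 2, 0, 0, 0, 0, 0, 0; 1, 0, 0, 0, 1, 0, 0]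

/-- The orbit of the cyclic vector. -/
def orbit7 : List (List (ZMod 3)) := [[0, 0, 0, 0, 0, 0, 1], [0, 0, 0, 0, 0, 2, 0], [0, 0, 0, 2, 0, 0, 0], [0, 2, 0, 0, 0, 0, 0], [0, 2, 1, 0, 0, 0, 0], [2, 0, 1, 2, 1, 0, 0], [0, 0, 0, 0, 1, 1, 1]]

theorem word7 : (w7.map fun p => r7 (chevG2.xMat (ZMod 3) p.1 p.2)).prod = m7 := by
  decide +kernel

theorem facts7 : m7 ^ 7 = 1 ∧ m7 ≠ 1 := by decide +kernel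

theorem poly7 : q7a = ∑ k, c7a k • m7 ^ (k : ℕ) ∧ q7b = ∑ k, c7b k • m7 ^ (k : ℕ) := by
  decide +kernel

theorem vec7 : bfast cyc (m7 *ᵥ cyc) = q7a *ᵥ cyc ∧
    bfast cyc ((m7 * m7) *ᵥ cyc) = q7b *ᵥ cyc := by decide +kernel

theorem krylov_spec7 : krylov7 * krylovInv7 = 1 ∧
    ∀ j : Fin 7, (fun i => krylov7 i j) = m7 ^ (j : ℕ) *ᵥ cyc := by decide +kernel

theorem orbit_spec7 : orbit7 = (List.range 7).map fun k => List.ofFn (m7 ^ k *ᵥ cyc) := by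
  decide +kernel

theorem search7 : ∀ a b c d e f g : ZMod 3,
    q7a *ᵥ ![a, b, c, d, e, f, g] = bfast ![a, b, c, d, e, f, g] (m7 *ᵥ ![a, b, c, d, e, f, g]) →
    q7b *ᵥ ![a, b, c, d, e, f, g] =
      bfast ![a, b, c, d, e, f, g] ((m7 * m7) *ᵥ ![a, b, c, d, e, f, g]) →
    [a, b, c, d, e, f, g] ∈ orbit7 ∨ [a, b, c, d, e, f, g] = [0, 0, 0, 0, 0, 0, 0] := by
  decide +kernel

/-- The action of the element of order 13. -/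
def m13 : Matrix (Fin 7) (Fin 7) (ZMod 3) := !![0, 0, 2, 1, 1, 0, 0; 0, 1, 2, 0, 0, 0, 0; 2, 2, 1, 1, 2, 0, 0; 2, 0, 2, 1, 2, 0, 0; 2, 0, 1, 2, 0, 2, 2; 0, 0, 0, 0, 1, 1, 1; 0, 0, 0, 0, 1, 1, 2]

def w13 : List (Fin 12 × ZMod 3) := [(7, 1), (5, 2), (4, 1), (6, 1)]

def c13a : Fin 7 → ZMod 3 := ![0, 0, 0, 0, 0, 0, 0]

def c13b : Fin 7 → ZMod 3 := ![0, 2, 0, 0, 0, 0, 0]

def q13a : Matrix (Fin 7) (Fin 7) (ZMod 3) := !![0, 0, 0, 0, 0, 0, 0; 0, 0, 0, 0, 0, 0, 0; 0, 0, 0, 0, 0, 0, 0; 0, 0, 0, 0, 0, 0, 0; 0, 0, 0, 0, 0, 0, 0; 0, 0, 0, 0, 0, 0, 0; 0, 0, 0, 0, 0, 0, 0]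

def q13b : Matrix (Fin 7) (Fin 7) (ZMod 3) := !![0, 0, 1, 2, 2, 0, 0; 0, 2, 1, 0, 0, 0, 0; 1, 1, 2, 2, 1, 0, 0; 1, 0, 1, 2, 1, 0, 0; 1, 0, 2, 1, 0, 1, 1; 0, 0, 0, 0, 2, 2, 2; 0, 0, 0, 0, 2, 2, 1]

def krylov13 : Matrix (Fin 7) (Fin 7) (ZMod 3) := !![0, 0, 2, 0, 2, 0, 0; 0, 0, 0, 2, 2, 1, 2; 0, 0, 1, 0, 1, 2, 0; 0, 0, 1, 1, 0, 2, 0; 0, 2, 0, 1, 1, 0, 0; 0, 1, 2, 0, 2, 0, 0; 1, 2, 1, 1, 0, 0, 0]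

def krylovInv13 : Matrix (Fin 7) (Fin 7) (ZMod 3) := !![0, 0, 1, 2, 0, 1, 1; 2, 0, 0, 0, 0, 1, 0; 1, 0, 1, 2, 1, 1, 0; 1, 0, 1, 2, 2, 2, 0; 1, 0, 2, 1, 2, 2, 0; 2, 0, 2, 0, 0, 0, 0; 0, 2, 2, 0, 2, 2, 0]

/-- The orbit of the cyclic vector. -/
def orbit13 : List (List (ZMod 3)) := [[0, 0, 0, 0, 0, 0, 1], [0, 0, 0, 0, 2, 1, 2], [2, 0, 1, 1, 0, 2, 1], [0, 2, 0, 1, 1, 0, 1], [2, 2, 1, 0, 1, 2, 0], [0, 1, 2, 2, 0, 0, 0], [0, 2, 0, 0, 0, 0, 0], [0, 2, 1, 0, 0, 0, 0], [2, 1, 2, 2, 1, 0, 0], [1, 2, 0, 0, 1, 1, 1], [1, 2, 2, 1, 0, 0, 1], [2, 0, 0, 1, 2, 1, 2], [0, 0, 0, 0, 0, 2, 1]]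

theorem word13 : (w13.map fun p => r7 (chevG2.xMat (ZMod 3) p.1 p.2)).prod = m13 := by
  decide +kernel

theorem facts13 : m13 ^ 13 = 1 ∧ m13 ≠ 1 := by decide +kernel

theorem poly13 : q13a = ∑ k, c13a k • m13 ^ (k : ℕ) ∧ q13b = ∑ k, c13b k • m13 ^ (k : ℕ) := by
  decide +kernel

theorem vec13 : bfast cyc (m13 *ᵥ cyc) = q13a *ᵥ cyc ∧
    bfast cyc ((m13 * m13) *ᵥ cyc) = q13b *ᵥ cyc := by decide +kernel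

theorem krylov_spec13 : krylov13 * krylovInv13 = 1 ∧
    ∀ j : Fin 7, (fun i => krylov13 i j) = m13 ^ (j : ℕ) *ᵥ cyc := by decide +kernel

theorem orbit_spec13 : orbit13 = (List.range 13).map fun k => List.ofFn (m13 ^ k *ᵥ cyc) := by
  decide +kernel

theorem search13 : ∀ a b c d e f g : ZMod 3,
    q13a *ᵥ ![a, b, c, d, e, f, g] = bfast ![a, b, c, d, e, f, g] (m13 *ᵥ ![a, b, c, d, e, f, g]) →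
    q13b *ᵥ ![a, b, c, d, e, f, g] =
      bfast ![a, b, c, d, e, f, g] ((m13 * m13) *ᵥ ![a, b, c, d, e, f, g]) →
    [a, b, c, d, e, f, g] ∈ orbit13 ∨ [a, b, c, d, e, f, g] = [0, 0, 0, 0, 0, 0, 0] := by
  decide +kernel

end CfsgLib.G2Three
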